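/-
A self-centralising strongly closed abelian 2-subgroup with a rigid normaliser is normal.
-/
import Cfsg.Agent.Lib.Cores.Basic
import Cfsg.Agent.Lib.Involution.StronglyEmbedded

set_option autoImplicit false

namespace Cfsg.Agent.AltEightClosed

open Cfsg Subgroup
open scoped Pointwise

universe u

/-- Goldschmidt's theorem on strongly closed abelian 2-subgroups. -/
def GoldTarget : Prop :=
  ∀ {G : Type u} [Group G] [Finite G] [IsSimpleGroup G] (S : Sylow 2 G) (A : Subgroup G), A ≠ ⊥ →
    IsMulCommutative A → Cfsg.IsStronglyClosed A (S : Subgroup G) →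
    IsMulCommutative (S : Subgroup G) ∨ ∃ H : Subgroup G, Cfsg.IsStronglyEmbedded H

variable {G : Type u} [Group G] [Finite G]

theorem normal_of_stronglyClosed (hGold : GoldTarget.{u}) (hO : Cfsg.pPrimeCore 2 G = ⊥) (S : Sylow 2 G)
    (A : Subgroup G) (hcomm : IsMulCommutative A) (hA1 : A ≠ ⊥)
    (hCA : ∀ x ∈ (S : Subgroup G), (∀ a ∈ A, x * a = a * x) → x ∈ A)
    (hsc : Cfsg.IsStronglyClosed A (S : Subgroup G)) (hSA : ¬ (S : Subgroup G) ≤ A)
    (hnot : ∃ s t : G, orderOf s = 2 ∧ orderOf t = 2 ∧ ¬ IsConj s t)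
    (hirr : ∀ B ≤ A, (∀ n ∈ normalizer (A : Set G), ∀ x ∈ B, n * x * n⁻¹ ∈ B) → B = ⊥ ∨ B = A)
    (hD : ∀ M : Subgroup G, M.Normal → A ≤ M →
      ((S : Subgroup G) ≤ M ∧
        ∀ B ≤ A, (∀ n ∈ normalizer (A : Set G), n ∈ M → ∀ x ∈ B, n * x * n⁻¹ ∈ B) → B = ⊥ ∨ B = A) ∨
      ((S : Subgroup G) ⊓ M ≤ A ∧
        ∀ n ∈ normalizer (A : Set G), n ∈ M → ∀ a ∈ A, n * a = a * n)) : A.Normal := by
  haveI := Fact.mk Nat.prime_two
  have hAS : A ≤ S := hsc.1
  have hAconj : ∀ x ∈ (S : Subgroup G), ∀ a ∈ A, x * a * x⁻¹ ∈ A := fun x hx a ha =>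
    hsc.2 a ha x (mul_mem (mul_mem hx (hAS ha)) (inv_mem hx))
  -- a nontrivial subgroup of `G` with normal closure in it meets `A`
  have meet : ∀ T : Subgroup G, (∀ a ∈ A, ∀ x ∈ T, a * x * a⁻¹ ∈ T) → A ⊓ T = ⊥ →
      (S : Subgroup G) ⊓ T = ⊥ := by
    intro T hT h0
    refine (eq_bot_iff_forall _).2 fun x hx => ?_
    have hxA : x ∈ A := hCA x hx.1 fun a ha => by
      have h1 : x * a * x⁻¹ * a⁻¹ ∈ A := mul_mem (hAconj x hx.1 a ha) (inv_mem ha)
      have h2 : x * a * x⁻¹ * a⁻¹ ∈ T := by
        rw [show x * a * x⁻¹ * a⁻¹ = x * (a * x⁻¹ * a⁻¹) by group]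
        exact mul_mem hx.2 (hT a ha _ (inv_mem hx.2))
      have h3 : x * a * x⁻¹ * a⁻¹ = 1 := mem_bot.1 (h0 ▸ ⟨h1, h2⟩)
      exact eq_of_mul_inv_eq_one (by rw [← h3]; group)
    exact mem_bot.1 (h0 ▸ ⟨hxA, hx.2⟩)
  -- a minimal normal subgroup
  obtain ⟨M, ⟨hMn, hMne⟩, hMmin⟩ :=
    (Set.toFinite {M : Subgroup G | M.Normal ∧ M ≠ ⊥}).exists_minimal ⟨⊤, inferInstance, by
      intro h
      refine hA1 (le_bot_iff.1 ?_)
      rw [← h]; exact le_top⟩
  haveI := hMn
  have hmin : ∀ K : Subgroup G, K.Normal → K ≠ ⊥ → K ≤ M → K = M := fun K h1 h2 h3 =>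
    le_antisymm h3 (hMmin ⟨h1, h2⟩ h3)
  have hSM : (S : Subgroup G) ⊓ M ≠ ⊥ := by
    intro h
    refine hMne (le_bot_iff.1 (hO ▸ Cores.le_pPrimeCore hMn ?_))
    refine (Nat.Prime.coprime_iff_not_dvd Nat.prime_two).2 ?_ |>.symm
    intro h2
    obtain ⟨x, hx⟩ := exists_prime_orderOf_dvd_card' 2 h2
    have hx2 : IsPGroup 2 (zpowers (x : G)) := IsPGroup.of_card (n := 1) (p := 2) (by
      rw [Nat.card_zpowers, orderOf_coe, hx, pow_one])
    obtain ⟨Q, hQ⟩ := hx2.exists_le_sylow
    obtain ⟨g, hg⟩ := MulAction.exists_smul_eq G Q S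
    have h3 : g * (x : G) * g⁻¹ ∈ (S : Subgroup G) := by
      rw [← hg, Sylow.coe_subgroup_smul]
      exact (Subgroup.mem_map).2 ⟨x, hQ (mem_zpowers _), rfl⟩
    have h4 : g * (x : G) * g⁻¹ = 1 := mem_bot.1 (h ▸ ⟨h3, hMn.conj_mem _ x.2 g⟩)
    rw [conj_eq_one_iff] at h4
    rw [← orderOf_coe, h4, orderOf_one] at hx
    exact absurd hx (by norm_num)
  have hAM : A ≤ M := by
    rcases hirr (A ⊓ M) inf_le_left (fun n hn x hx =>
      ⟨((mem_normalizer_iff).1 hn x).1 hx.1, hMn.conj_mem x hx.2 n⟩) with h | h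
    · exact absurd (meet M (fun a _ x hx => hMn.conj_mem x hx a) h) hSM
    · exact inf_eq_left.1 h
  by_cases hMab : ∀ x ∈ M, ∀ y ∈ M, x * y = y * x
  · -- an abelian minimal normal subgroup is `A`
    let K : Subgroup G :=
      { carrier := {x | x ∈ M ∧ x * x = 1}
        one_mem' := ⟨one_mem _, one_mul 1⟩
        mul_mem' := fun {x y} hx hy => ⟨mul_mem hx.1 hy.1, by
          calc x * y * (x * y) = x * (y * x) * y := by group
            _ = x * (x * y) * y := by rw [hMab x hx.1 y hy.1]
            _ = (x * x) * (y * y) := by group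
            _ = 1 := by rw [hx.2, hy.2, one_mul]⟩
        inv_mem' := fun {x} hx => ⟨inv_mem hx.1, by rw [← mul_inv_rev, hx.2, inv_one]⟩ }
    have hKn : K.Normal := ⟨fun x hx g => ⟨hMn.conj_mem x hx.1 g, by
      rw [show g * x * g⁻¹ * (g * x * g⁻¹) = g * (x * x) * g⁻¹ by group, hx.2]; group⟩⟩
    have hKne : K ≠ ⊥ := by
      intro h
      obtain ⟨a, ha, ha1⟩ := (A.bot_or_exists_ne_one).resolve_left hA1
      obtain ⟨k, hk⟩ := IsPGroup.iff_orderOf.1 S.2 (⟨a, hAS ha⟩ : (S : Subgroup G))
      have hk' : orderOf a = 2 ^ k := by rw [← hk, ← orderOf_coe]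
      rcases k with _ | k
      · exact ha1 (orderOf_eq_one_iff.1 (by simpa using hk'))
      have hk1 : orderOf (a ^ 2 ^ k) = 2 := by
        rw [orderOf_pow_of_dvd (by positivity) (by rw [hk', pow_succ]; exact dvd_mul_right _ _), hk',
          pow_succ, Nat.mul_div_cancel_left _ (by positivity)]
      have hm : a ^ 2 ^ k ∈ K := ⟨pow_mem (hAM ha) _, by
        have e := pow_orderOf_eq_one (a ^ 2 ^ k)
        rwa [hk1, pow_two] at e⟩
      rw [h, mem_bot] at hm
      rw [hm, orderOf_one] at hk1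
      exact absurd hk1 (by norm_num)
    have hKM : K = M := hmin K hKn hKne (fun x hx => hx.1)
    have hM2 : IsPGroup 2 M := fun x => ⟨1, Subtype.ext (by
      have hxK : (x : G) ∈ K := hKM.symm ▸ x.2
      show (x : G) ^ 2 ^ 1 = 1
      rw [pow_one, pow_two]; exact hxK.2)⟩
    have hMS : M ≤ S := hM2.le_sylow_of_normal S
    have hMA : M = A :=
      le_antisymm (fun x hx => hCA x (hMS hx) fun a ha => hMab x hx a (hAM ha)) hAM
    exact hMA ▸ hMn
  · rcases hD M hMn hAM with ⟨hSle, hirrM⟩ | ⟨hSint, hcen⟩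
    · exfalso
      -- `M` is simple
      have hsimple : IsSimpleGroup M := by
        haveI : Nontrivial M := (nontrivial_iff_ne_bot M).2 hMne
        refine ⟨fun T hT => or_iff_not_imp_left.2 fun hT1 => ?_⟩
        set TG := T.map M.subtype with hTG
        have hnorm : ∀ m ∈ M, ∀ x ∈ TG, m * x * m⁻¹ ∈ TG := by
          intro m hm x hx
          obtain ⟨t, ht, rfl⟩ := mem_map.1 hx
          exact mem_map.2 ⟨_, hT.conj_mem t ht ⟨m, hm⟩, rfl⟩
        -- every nontrivial subgroup normalised by `M` and inside it contains `A`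
        have key : ∀ U : Subgroup G, U ≤ M → (∀ m ∈ M, ∀ x ∈ U, m * x * m⁻¹ ∈ U) → U ≠ ⊥ → A ≤ U := by
          intro U hUM hU hUne
          have hSU : (S : Subgroup G) ⊓ U ≠ ⊥ := by
            intro h
            haveI : (U.subgroupOf M).Normal :=
              ⟨fun x hx m => hU m m.2 x hx⟩
            have hco : (Nat.card (U.subgroupOf M)).Coprime 2 := by
              refine ((Nat.Prime.coprime_iff_not_dvd Nat.prime_two).2 ?_).symm
              intro h2
              obtain ⟨x, hx⟩ := exists_prime_orderOf_dvd_card' 2 h2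
              have hxp : IsPGroup 2 (zpowers (x : M)) := IsPGroup.of_card (n := 1) (p := 2) (by
                rw [Nat.card_zpowers, orderOf_coe, hx, pow_one])
              obtain ⟨Q, hQ⟩ := hxp.exists_le_sylow
              obtain ⟨g, hg⟩ := MulAction.exists_smul_eq M Q (S.subtype hSle)
              have h3 : g * (x : M) * g⁻¹ ∈ (S.subtype hSle : Subgroup M) := by
                rw [← hg, Sylow.coe_subgroup_smul]
                exact (Subgroup.mem_map).2 ⟨x, hQ (mem_zpowers _), rfl⟩
              rw [Sylow.coe_subtype, mem_subgroupOf] at h3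
              have h4 : ((g * (x : M) * g⁻¹ : M) : G) = 1 :=
                mem_bot.1 (h ▸ ⟨h3, hU g g.2 _ x.2⟩)
              rw [OneMemClass.coe_eq_one, conj_eq_one_iff] at h4
              rw [← orderOf_coe, h4, orderOf_one] at hx
              exact absurd hx (by norm_num)
            have hle : (U.subgroupOf M).map M.subtype ≤ (Cfsg.oddCore M).map M.subtype :=
              Subgroup.map_mono (Cores.le_pPrimeCore inferInstance hco)
            rw [Cores.pPrimeCore_map_subtype, hO, bot_inf_eq, subgroupOf_map_subtype, inf_eq_left.2 hUM,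
              le_bot_iff] at hle
            exact hUne hle
          rcases hirrM (A ⊓ U) inf_le_left (fun n hn hnM x hx =>
            ⟨((mem_normalizer_iff).1 hn x).1 hx.1, hU n hnM x hx.2⟩) with h | h
          · exact absurd (meet U (fun a ha => hU a (hAM ha)) h) hSU
          · exact inf_eq_left.1 h
        have hTGne : TG ≠ ⊥ := fun h => hT1 ((map_eq_bot_iff_of_injective T M.subtype_injective).1 h)
        have hTGM : TG ≤ M := map_subtype_le T
        have hA' : A ≤ TG.normalCore := by
          intro a ha b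
          set V : Subgroup G := TG.map (MulAut.conj b⁻¹).toMonoidHom with hV
          have hVA : A ≤ V := by
            refine key V ?_ ?_ ?_
            · rintro - ⟨x, hx, rfl⟩
              exact hMn.conj_mem x (hTGM hx) _
            · rintro m hm - ⟨x, hx, rfl⟩
              refine ⟨_, hnorm _ (hMn.conj_mem m hm b) x hx, ?_⟩
              simp only [MulEquiv.coe_toMonoidHom, MulAut.conj_apply]; group
            · intro h
              exact hTGne ((map_eq_bot_iff_of_injective TG (MulAut.conj b⁻¹).injective).1 h)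
          obtain ⟨x, hx, rfl⟩ := hVA ha
          simpa [mul_assoc] using hx
        have hcore : TG.normalCore = M := hmin _ inferInstance
          (fun h => hA1 (le_bot_iff.1 (h ▸ hA'))) ((normalCore_le TG).trans hTGM)
        rw [eq_top_iff]
        intro x _
        have hxT : (x : G) ∈ TG := normalCore_le TG (hcore.symm ▸ x.2)
        obtain ⟨t, ht, hte⟩ := mem_map.1 hxT
        rwa [← Subtype.ext hte]
      haveI := hsimple
      let SM := S.subtype hSle
      have hAM' : A.subgroupOf M ≠ ⊥ := by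
        rw [Ne, subgroupOf_eq_bot, disjoint_iff, inf_eq_left.2 hAM]; exact hA1
      have hscM : Cfsg.IsStronglyClosed (A.subgroupOf M) (SM : Subgroup M) :=
        ⟨fun x hx => hAS hx, fun x hx g hg => hsc.2 x hx g hg⟩
      have hcM : IsMulCommutative (A.subgroupOf M) := ⟨⟨fun x y => Subtype.ext (Subtype.ext (by
        show ((x : M) : G) * ((y : M) : G) = ((y : M) : G) * ((x : M) : G)
        haveI := hcomm
        exact congrArg Subtype.val (mul_comm' (⟨((x : M) : G), x.2⟩ : A) ⟨((y : M) : G), y.2⟩)))⟩⟩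
      rcases hGold SM (A.subgroupOf M) hAM' hcM hscM with hab | ⟨H, hH⟩
      · refine hSA fun x hx => hCA x hx fun a ha => ?_
        haveI := hab
        exact congrArg (fun z : (SM : Subgroup M) => ((z : M) : G))
          (mul_comm' (⟨⟨x, hSle hx⟩, hx⟩ : (SM : Subgroup M)) ⟨⟨a, hAM ha⟩, hAS ha⟩)
      · obtain ⟨s, t, hs, ht, hst⟩ := hnot
        have conjIn : ∀ y : G, orderOf y = 2 → ∃ g : G, g * y * g⁻¹ ∈ M := by
          intro y hy
          have hp : IsPGroup 2 (zpowers y) :=
            IsPGroup.of_card (n := 1) (p := 2) (by rw [Nat.card_zpowers, hy, pow_one])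
          obtain ⟨Q, hQ⟩ := hp.exists_le_sylow
          obtain ⟨g, hg⟩ := MulAction.exists_smul_eq G Q S
          refine ⟨g, hSle ?_⟩
          rw [← hg, Sylow.coe_subgroup_smul]
          exact (Subgroup.mem_map).2 ⟨y, hQ (mem_zpowers _), rfl⟩
        obtain ⟨g₁, hg₁⟩ := conjIn s hs
        obtain ⟨g₂, hg₂⟩ := conjIn t ht
        have ho1 : orderOf (g₁ * s * g₁⁻¹) = 2 := by
          rw [← MulAut.conj_apply, (MulAut.conj g₁).orderOf_eq, hs]
        have ho2 : orderOf (g₂ * t * g₂⁻¹) = 2 := by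
          rw [← MulAut.conj_apply, (MulAut.conj g₂).orderOf_eq, ht]
        have h := Involution.isConj_involutions hH (s := (⟨_, hg₁⟩ : M)) (t := (⟨_, hg₂⟩ : M))
          (by rw [← orderOf_coe]; exact ho1) (by rw [← orderOf_coe]; exact ho2)
        exact hst ((isConj_iff.2 ⟨g₁, rfl⟩ : IsConj s (g₁ * s * g₁⁻¹)).trans
          ((MonoidHom.map_isConj M.subtype h).trans (isConj_iff.2 ⟨g₂, rfl⟩ : IsConj t (g₂ * t * g₂⁻¹)).symm))
    · -- Burnside's transfer
      have hp : IsPGroup 2 (A.subgroupOf M) :=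
        (S.2.to_le hAS).comap_of_injective _ M.subtype_injective
      have hmaxA : ∀ {Q : Subgroup M}, IsPGroup 2 Q → A.subgroupOf M ≤ Q → Q = A.subgroupOf M := by
        intro Q hQ hle
        obtain ⟨P, hP⟩ := (hQ.map M.subtype).exists_le_sylow
        obtain ⟨g, hg⟩ := MulAction.exists_smul_eq G P S
        -- compare orders
        have hinj : Nat.card Q ≤ Nat.card A := by
          let f : Q → A := fun x => ⟨g * ((x : M) : G) * g⁻¹, hSint ⟨by
            rw [← hg, Sylow.coe_subgroup_smul]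
            exact (Subgroup.mem_map).2 ⟨_, hP (mem_map.2 ⟨x.1, x.2, rfl⟩), rfl⟩, hMn.conj_mem _ x.1.2 g⟩⟩
          refine Nat.card_le_card_of_injective f fun x y h => ?_
          have h' := congrArg Subtype.val h
          simp only [f, mul_left_inj, mul_right_inj] at h'
          exact Subtype.ext (Subtype.ext h')
        refine (SetLike.ext' (Set.eq_of_subset_of_ncard_le hle ?_ (Set.toFinite _))).symm
        rw [← Nat.card_coe_set_eq, ← Nat.card_coe_set_eq]
        exact hinj.trans (le_of_eq (Nat.card_congr (subgroupOfEquivOfLe hAM).toEquiv).symm)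
      let P : Sylow 2 M := { toSubgroup := A.subgroupOf M, isPGroup' := hp, is_maximal' := hmaxA }
      have hN : normalizer ((P : Subgroup M) : Set M) ≤ centralizer ((P : Subgroup M) : Set M) := by
        intro n hn
        rw [mem_centralizer_iff]
        intro a ha
        have hnA : (n : G) ∈ normalizer (A : Set G) := by
          rw [mem_normalizer_iff]
          intro z
          by_cases hzM : z ∈ M
          · exact (mem_normalizer_iff.1 hn ⟨z, hzM⟩)
          · exact iff_of_false (fun h => hzM (hAM h)) (fun h => hzM (by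
              simpa [mul_assoc] using hMn.conj_mem _ (hAM h) (n : G)⁻¹))
        exact Subtype.ext (hcen n hnA n.2 a ha).symm
      set K := (MonoidHom.transferSylow P hN).ker with hK
      have hKle : K.map M.subtype ≤ (Cfsg.oddCore M).map M.subtype :=
        Subgroup.map_mono (Cores.le_pPrimeCore inferInstance
          ((Nat.Prime.coprime_iff_not_dvd Nat.prime_two).2
            (MonoidHom.not_dvd_card_ker_transferSylow P hN)).symm)
      rw [Cores.pPrimeCore_map_subtype, hO, bot_inf_eq, le_bot_iff,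
        map_eq_bot_iff_of_injective _ M.subtype_injective] at hKle
      have hcompl := MonoidHom.ker_transferSylow_isComplement' P hN
      rw [← hK, hKle, isComplement'_bot_left] at hcompl
      have hMA : M = A := le_antisymm (subgroupOf_eq_top.1 hcompl) hAM
      exact hMA ▸ hMn

end Cfsg.Agent.AltEightClosed
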