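/-
A faithful action of the alternating group of degree 5 on an elementary abelian group of order 16.
-/
import Cfsg.Agent.EqLemmas

set_option autoImplicit false

namespace Cfsg.Agent.AltEightClosed

open Equiv Finset

/-- The fixed points of a permutation of prime order on an invariant finite set. -/
theorem fix_count {α : Type*} [DecidableEq α] {p : ℕ} [Fact p.Prime] (σ : Perm α) (hσ : σ ^ p = 1)
    (s : Finset α) (hs : ∀ x, σ x ∈ s ↔ x ∈ s) : (s.filter fun x => σ x = x).card ≡ s.card [MOD p] := by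
  have hpow : (σ.subtypePerm hs) ^ p ^ 1 = 1 := by
    rw [pow_one, Perm.subtypePerm_pow]
    ext x; simp [hσ]
  have h := Perm.card_compl_support_modEq (σ := σ.subtypePerm hs) hpow
  rw [Fintype.card_coe] at h
  convert h using 1
  refine Finset.card_bij (fun x hx => ⟨x, (Finset.mem_filter.1 hx).1⟩) ?_ ?_ ?_
  · intro x hx
    simp only [Finset.mem_compl, Perm.mem_support, not_not]
    exact Subtype.ext (Finset.mem_filter.1 hx).2
  · intro a _ b _ h
    exact congrArg Subtype.val h
  · intro y hy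
    simp only [Finset.mem_compl, Perm.mem_support, not_not] at hy
    exact ⟨y.1, Finset.mem_filter.2 ⟨y.2, congrArg Subtype.val hy⟩, rfl⟩

local notation "A5" => alternatingGroup (Fin 5)

theorem partner : ∀ s : A5, s * s = 1 → s ≠ 1 →
    ∃ s' : A5, s' * s' = 1 ∧ s' ≠ 1 ∧ (s * s') ^ 5 = 1 ∧ s * s' ≠ 1 := by decide +kernel

theorem exists_five : ∃ y : A5, y ^ 5 = 1 ∧ y ≠ 1 := by decide +kernel

theorem exists_three : ∃ y : A5, y ^ 3 = 1 ∧ y ≠ 1 := by decide +kernel

theorem conj_involutions : ∀ s t : A5, s * s = 1 → s ≠ 1 → t * t = 1 → t ≠ 1 →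
    ∃ g : A5, g * s * g⁻¹ = t := by decide +kernel

variable {A : Type*} [CommGroup A] [Finite A] (hsq : ∀ a : A, a * a = 1) (hcard : Nat.card A = 16)
  (ρ : A5 →* MulAut A) (hρ : Function.Injective ρ)

/-- The fixed subgroup of an element. -/
def fixedSub (g : A5) : Subgroup A where
  carrier := {a | ρ g a = a}
  one_mem' := map_one _
  mul_mem' {a b} ha hb := by
    simp only [Set.mem_setOf_eq] at ha hb ⊢
    rw [map_mul, ha, hb]
  inv_mem' {a} ha := by
    simp only [Set.mem_setOf_eq] at ha ⊢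
    rw [map_inv, ha]

theorem mem_fixedSub {g : A5} {a : A} : a ∈ fixedSub ρ g ↔ ρ g a = a := Iff.rfl

theorem perm_pow {p : ℕ} {g : A5} (hg : g ^ p = 1) : (ρ g).toEquiv ^ p = (1 : Perm A) := by
  have h : MulAut.toPerm A (ρ g) ^ p = 1 := by rw [← map_pow, ← map_pow, hg, map_one, map_one]
  exact h

include hcard hρ

theorem fixedSub_card {p : ℕ} [Fact p.Prime] {g : A5} (hg : g ^ p = 1) (hg1 : g ≠ 1) :
    Nat.card (fixedSub ρ g) ∣ 16 ∧ Nat.card (fixedSub ρ g) % p = 16 % p ∧
      Nat.card (fixedSub ρ g) ≠ 16 := by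
  classical
  haveI := Fintype.ofFinite A
  refine ⟨hcard ▸ Subgroup.card_subgroup_dvd_card _, ?_, ?_⟩
  · have h := fix_count (ρ g).toEquiv (perm_pow ρ hg) Finset.univ (by simp)
    rw [Finset.card_univ, ← Nat.card_eq_fintype_card, hcard] at h
    rw [← h]
    congr 1
    rw [Nat.card_eq_fintype_card]
    exact Fintype.card_of_subtype _ (fun x => by simp [mem_fixedSub])
  · intro h
    have htop : fixedSub ρ g = ⊤ := Subgroup.eq_top_of_card_eq _ (by rw [h, hcard])
    refine hg1 (hρ ?_)
    rw [map_one]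
    refine MulEquiv.ext fun a => ?_
    show ρ g a = a
    exact (mem_fixedSub ρ).1 (htop ▸ Subgroup.mem_top a)

/-- An element of order five fixes only the identity. -/
theorem five_fixed {g : A5} (hg : g ^ 5 = 1) (hg1 : g ≠ 1) {a : A} (ha : ρ g a = a) : a = 1 := by
  haveI : Fact (Nat.Prime 5) := ⟨by norm_num⟩
  obtain ⟨h1, h2, h3⟩ := fixedSub_card hcard ρ hρ hg hg1
  obtain ⟨k, hk, hk'⟩ := (Nat.dvd_prime_pow Nat.prime_two).1 (show _ ∣ 2 ^ 4 from h1)
  have : Nat.card (fixedSub ρ g) = 1 := by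
    interval_cases k <;> simp_all
  rw [Subgroup.card_eq_one] at this
  have hm : a ∈ fixedSub ρ g := ha
  rwa [this, Subgroup.mem_bot] at hm

include hsq

/-- Every element fixed by an involution is a commutator with it. -/
theorem exists_eq_mul {s : A5} (hs : s * s = 1) (hs1 : s ≠ 1) {a : A} (ha : ρ s a = a) :
    ∃ b, a = b * ρ s b := by
  classical
  haveI := Fintype.ofFinite A
  let fs : A5 → A →* A := fun t => MonoidHom.id A * (ρ t).toMonoidHom
  have hfs : ∀ t b, fs t b = b * ρ t b := fun t b => rfl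
  have hker : ∀ t, (fs t).ker = fixedSub ρ t := by
    intro t; ext b
    rw [MonoidHom.mem_ker, hfs, mem_fixedSub, mul_eq_one_iff_eq_inv, inv_eq_of_mul_eq_one_right (hsq _)]
    exact eq_comm
  have hrange : ∀ t, t * t = 1 → (fs t).range ≤ fixedSub ρ t := by
    rintro t ht - ⟨b, rfl⟩
    rw [mem_fixedSub, hfs, map_mul, ← MulAut.mul_apply, ← map_mul, ht, map_one, MulAut.one_apply, mul_comm]
  have hmul : ∀ t, Nat.card (fixedSub ρ t) * Nat.card (fs t).range = 16 := by
    intro t
    rw [← hker, ← hcard, ← Subgroup.index_ker, Subgroup.card_mul_index]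
  have hlow : ∀ t, t * t = 1 → 4 ≤ Nat.card (fixedSub ρ t) := by
    intro t ht
    have h1 := Subgroup.card_le_of_le (hrange t ht)
    have h2 := hmul t
    nlinarith
  obtain ⟨s', hs', hs'1, h5, h51⟩ := partner s hs hs1
  have hinj : Function.Injective (fun q : fixedSub ρ s × fixedSub ρ s' => (q.1 : A) * q.2) := by
    rintro ⟨⟨x, hx⟩, ⟨y, hy⟩⟩ ⟨⟨x', hx'⟩, ⟨y', hy'⟩⟩ h
    simp only at h
    have he : x'⁻¹ * x = y' * y⁻¹ := by
      rw [inv_mul_eq_iff_eq_mul, ← mul_assoc, eq_mul_inv_iff_mul_eq]; exact h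
    have h1 : x'⁻¹ * x ∈ fixedSub ρ s := mul_mem (inv_mem hx') hx
    have h2 : x'⁻¹ * x ∈ fixedSub ρ s' := he ▸ mul_mem hy' (inv_mem hy)
    have h0 : x'⁻¹ * x = 1 := five_fixed hcard ρ hρ h5 h51
      (by rw [map_mul ρ, MulAut.mul_apply, (mem_fixedSub ρ).1 h2, (mem_fixedSub ρ).1 h1])
    have hxx : x' = x := inv_mul_eq_one.1 h0
    subst hxx
    have hyy : y = y' := mul_left_cancel h
    subst hyy
    rfl
  have hle := Nat.card_le_card_of_injective _ hinj
  rw [Nat.card_prod, hcard] at hle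
  have hl := hlow s hs
  have hl' := hlow s' hs'
  have h4 : Nat.card (fixedSub ρ s) = 4 := le_antisymm (by nlinarith) hl
  have hr4 : Nat.card (fs s).range = 4 := by
    have := hmul s; rw [h4] at this; omega
  have heq : (fs s).range = fixedSub ρ s :=
    SetLike.ext' (Set.eq_of_subset_of_ncard_le (hrange s hs)
      (by simp only [← Nat.card_coe_set_eq, SetLike.coe_sort_coe, h4, hr4, le_refl]) (Set.toFinite _))
  obtain ⟨b, hb⟩ := heq.symm ▸ (show a ∈ fixedSub ρ s from ha)
  exact ⟨b, hb.symm⟩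

omit hsq

/-- A subgroup invariant under a subgroup containing an element of order five is trivial or full. -/
theorem invariant_bot_top {g : A5} (hg : g ^ 5 = 1) (hg1 : g ≠ 1) (B : Subgroup A)
    (hB : ∀ a ∈ B, ρ g a ∈ B) : B = ⊥ ∨ B = ⊤ := by
  classical
  haveI := Fintype.ofFinite A
  haveI : Fact (Nat.Prime 5) := ⟨by norm_num⟩
  let s : Finset A := Finset.univ.filter fun x => x ∈ B
  have hiff : ∀ x, ρ g x ∈ B ↔ x ∈ B := by
    refine fun x => ⟨fun h => ?_, hB x⟩
    have h5 : ∀ n, ∀ y ∈ B, ρ (g ^ n) y ∈ B := by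
      intro n
      induction n with
      | zero => intro y hy; simpa using hy
      | succ n ih => intro y hy; rw [pow_succ', map_mul, MulAut.mul_apply]; exact hB _ (ih y hy)
    have := h5 4 _ h
    rwa [← MulAut.mul_apply, ← map_mul, ← pow_succ, show 4 + 1 = 5 from rfl, hg, map_one, MulAut.one_apply]
      at this
  have h := fix_count (ρ g).toEquiv (perm_pow ρ hg) s (fun x => by simp [s, hiff])
  have h1 : (s.filter fun x => (ρ g).toEquiv x = x) = {1} := by
    ext x
    simp only [Finset.mem_filter, Finset.mem_singleton, MulEquiv.toEquiv_eq_coe, MulEquiv.coe_toEquiv]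
    refine ⟨fun hx => five_fixed hcard ρ hρ hg hg1 hx.2, ?_⟩
    rintro rfl
    simp [s]
  rw [h1, Finset.card_singleton] at h
  have hs : s.card = Nat.card B := by
    rw [Nat.card_eq_fintype_card]
    exact (Fintype.card_of_subtype s (fun x => by simp [s])).symm
  rw [hs] at h
  obtain ⟨k, hk, hk'⟩ := (Nat.dvd_prime_pow Nat.prime_two).1
    (show _ ∣ 2 ^ 4 from hcard ▸ Subgroup.card_subgroup_dvd_card B)
  have hor : Nat.card B = 1 ∨ Nat.card B = 16 := by
    unfold Nat.ModEq at h
    rw [hk'] at h ⊢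
    interval_cases k <;> simp_all
  rcases hor with h | h
  · exact Or.inl (Subgroup.card_eq_one.1 h)
  · exact Or.inr (Subgroup.eq_top_of_card_eq B (by rw [h, hcard]))

/-- The nontrivial elements form at most two orbits. -/
theorem three_related {a b c : A} (ha : a ≠ 1) (hb : b ≠ 1) (hc : c ≠ 1) :
    ∃ g, ρ g a = b ∨ ρ g a = c ∨ ρ g b = c := by
  classical
  haveI := Fintype.ofFinite A
  by_contra hcon
  push Not at hcon
  let O : A → Finset A := fun x => Finset.univ.image fun g => ρ g x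
  have hmem : ∀ {x y}, y ∈ O x ↔ ∃ g, ρ g x = y := fun {x y} => by simp [O]
  have hinv : ∀ (h : A5) x y, (ρ h).toEquiv y ∈ O x ↔ y ∈ O x := by
    intro h x y
    simp only [hmem, MulEquiv.toEquiv_eq_coe, MulEquiv.coe_toEquiv]
    constructor
    · rintro ⟨g, hg⟩
      refine ⟨h⁻¹ * g, ?_⟩
      rw [map_mul, MulAut.mul_apply, hg, ← MulAut.mul_apply, ← map_mul, inv_mul_cancel, map_one,
        MulAut.one_apply]
    · rintro ⟨g, rfl⟩
      exact ⟨h * g, by rw [map_mul, MulAut.mul_apply]⟩
  have hone : ∀ {x}, x ≠ 1 → ∀ y ∈ O x, y ≠ 1 := by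
    intro x hx y hy h
    obtain ⟨g, rfl⟩ := hmem.1 hy
    exact hx ((ρ g).map_eq_one_iff.1 h)
  have hfive : ∀ {x}, x ≠ 1 → 5 ∣ (O x).card := by
    intro x hx
    haveI : Fact (Nat.Prime 5) := ⟨by norm_num⟩
    obtain ⟨y, hy, hy1⟩ := exists_five
    have h := fix_count (ρ y).toEquiv (perm_pow ρ hy) (O x) (hinv y x)
    simp only [MulEquiv.toEquiv_eq_coe, MulEquiv.coe_toEquiv] at h
    rw [Finset.card_eq_zero.2 (Finset.filter_eq_empty_iff.2 fun z hz he =>
      hone hx z hz (five_fixed hcard ρ hρ hy hy1 he))] at h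
    exact (Nat.modEq_zero_iff_dvd.1 h.symm)
  have hpos : ∀ x, 0 < (O x).card := fun x => Finset.card_pos.2 ⟨x, hmem.2 ⟨1, by simp⟩⟩
  have hdisj : ∀ {x y}, (∀ g, ρ g x ≠ y) → Disjoint (O x) (O y) := by
    intro x y hxy
    rw [Finset.disjoint_left]
    intro z hz hz'
    obtain ⟨g, rfl⟩ := hmem.1 hz
    obtain ⟨g', hg'⟩ := hmem.1 hz'
    refine hxy (g'⁻¹ * g) ?_
    rw [map_mul, MulAut.mul_apply, ← hg', ← MulAut.mul_apply, ← map_mul, inv_mul_cancel, map_one,
      MulAut.one_apply]
  have d1 := hdisj (fun g => (hcon g).1)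
  have d2 := hdisj (fun g => (hcon g).2.1)
  have d3 := hdisj (fun g => (hcon g).2.2)
  have hsum : (O a).card + (O b).card + (O c).card ≤ 15 := by
    have hd : Disjoint (O a ∪ O b) (O c) := Finset.disjoint_union_left.2 ⟨d2, d3⟩
    rw [← Finset.card_union_of_disjoint d1, ← Finset.card_union_of_disjoint hd]
    refine le_trans (Finset.card_le_card (t := Finset.univ.erase (1 : A)) ?_) ?_
    · intro z hz
      simp only [Finset.mem_union] at hz
      refine Finset.mem_erase.2 ⟨?_, Finset.mem_univ z⟩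
      rcases hz with (hz | hz) | hz
      exacts [hone ha z hz, hone hb z hz, hone hc z hz]
    · rw [Finset.card_erase_of_mem (Finset.mem_univ _), Finset.card_univ, ← Nat.card_eq_fintype_card, hcard]
  have h5a := hfive ha
  have h5b := hfive hb
  have h5c := hfive hc
  have hpa := hpos a
  have hpb := hpos b
  have hpc := hpos c
  obtain ⟨y, hy, hy1⟩ := exists_three
  haveI : Fact (Nat.Prime 3) := ⟨by norm_num⟩
  obtain ⟨q1, q2, q3⟩ := fixedSub_card hcard ρ hρ hy hy1
  have htwo : ∀ x, (O x).card = 5 → 2 ≤ ((O x).filter fun z => ρ y z = z).card := by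
    intro x hx
    have h := fix_count (ρ y).toEquiv (perm_pow ρ hy) (O x) (hinv y x)
    rw [hx] at h
    unfold Nat.ModEq at h
    simp only [MulEquiv.toEquiv_eq_coe, MulEquiv.coe_toEquiv] at h
    omega
  have t1 := htwo a (by omega)
  have t2 := htwo b (by omega)
  have t3 := htwo c (by omega)
  have hseven : 7 ≤ Nat.card (fixedSub ρ y) := by
    rw [Nat.card_eq_fintype_card, Fintype.card_of_subtype (Finset.univ.filter fun z => ρ y z = z)
      (fun x => by simp [mem_fixedSub])]
    have hsub : insert (1 : A) ((((O a).filter fun z => ρ y z = z) ∪ ((O b).filter fun z => ρ y z = z)) ∪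
        ((O c).filter fun z => ρ y z = z)) ⊆ Finset.univ.filter fun z => ρ y z = z := by
      intro z hz
      simp only [Finset.mem_insert, Finset.mem_union, Finset.mem_filter] at hz
      simp only [Finset.mem_filter, Finset.mem_univ, true_and]
      rcases hz with rfl | (h | h) | h
      exacts [map_one _, h.2, h.2, h.2]
    refine le_trans ?_ (Finset.card_le_card hsub)
    rw [Finset.card_insert_of_notMem, Finset.card_union_of_disjoint, Finset.card_union_of_disjoint]
    · omega
    · exact Finset.disjoint_filter_filter d1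
    · exact Finset.disjoint_union_left.2
        ⟨Finset.disjoint_filter_filter d2, Finset.disjoint_filter_filter d3⟩
    · simp only [Finset.mem_union, Finset.mem_filter]
      rintro ((h | h) | h)
      exacts [hone ha 1 h.1 rfl, hone hb 1 h.1 rfl, hone hc 1 h.1 rfl]
  obtain ⟨k, hk, hk'⟩ := (Nat.dvd_prime_pow Nat.prime_two).1 (show _ ∣ 2 ^ 4 from q1)
  rw [hk'] at q2 q3 hseven
  interval_cases k <;> simp_all

end Cfsg.Agent.AltEightClosed
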