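/-
The normaliser: a group with a normal elementary abelian subgroup of order 16 and quotient `A₅` over it.
-/
import Cfsg.Agent.Lib.AltEightClosed.Module

set_option autoImplicit false

namespace Cfsg.Agent.AltEightClosed

open Subgroup
open scoped Pointwise

/-- A normal elementary abelian subgroup of order 16, a normal subgroup of odd order, and `A₅` on top. -/
structure LData (N : Type*) [Group N] where
  A : Subgroup N
  O : Subgroup N
  ψ : N →* alternatingGroup (Fin 5)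
  normA : A.Normal
  normO : O.Normal
  comm : IsMulCommutative A
  sq : ∀ a ∈ A, a ^ 2 = 1
  card : Nat.card A = 16
  odd : Odd (Nat.card O)
  surj : Function.Surjective ψ
  ker : ψ.ker = A ⊔ O

namespace LData

variable {N : Type*} [Group N] [Finite N] (D : LData N)

theorem aut_mem (g : N) {a : N} (ha : a ∈ D.A) : g * a * g⁻¹ ∈ D.A := D.normA.conj_mem a ha g

theorem commute_A {a b : N} (ha : a ∈ D.A) (hb : b ∈ D.A) : a * b = b * a := by
  haveI := D.comm
  exact congrArg Subtype.val (mul_comm' (⟨a, ha⟩ : D.A) ⟨b, hb⟩)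

theorem disjoint_AO : D.A ⊓ D.O = ⊥ := by
  rw [← disjoint_iff]
  refine disjoint_of_coprime_natCard ?_
  rw [D.card, show 16 = 2 ^ 4 from rfl]
  exact Nat.Coprime.pow_left 4 (Nat.coprime_two_left.2 D.odd)

theorem commute_O {a o : N} (ha : a ∈ D.A) (ho : o ∈ D.O) : a * o = o * a :=
  commute_of_normal_of_disjoint _ _ D.normA D.normO (disjoint_iff.2 D.disjoint_AO) a o ha ho

theorem mem_ker {x : N} (hx : D.ψ x = 1) : ∃ a ∈ D.A, ∃ o ∈ D.O, x = a * o := by
  haveI := D.normA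
  have h : x ∈ D.A ⊔ D.O := D.ker ▸ hx
  obtain ⟨a, ha, o, ho, rfl⟩ := mem_sup_of_normal_left.1 h
  exact ⟨a, ha, o, ho, rfl⟩

/-- A 2-subgroup containing `A` meets the kernel in `A`. -/
theorem ker_two {Q : Subgroup N} (hQ : IsPGroup 2 Q) (hAQ : D.A ≤ Q) {x : N} (hx : x ∈ Q)
    (hψ : D.ψ x = 1) : x ∈ D.A := by
  obtain ⟨a, ha, o, ho, rfl⟩ := D.mem_ker hψ
  have hoQ : o ∈ Q := (mul_mem_cancel_left (hAQ ha)).1 hx
  have h1 : orderOf o ∣ Nat.card D.O := orderOf_dvd_natCard _ ho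
  obtain ⟨k, hk⟩ := hQ ⟨o, hoQ⟩
  have h2 : orderOf o ∣ 2 ^ k := orderOf_dvd_of_pow_eq_one (by simpa using congrArg Subtype.val hk)
  have h3 : orderOf o = 1 :=
    Nat.eq_one_of_dvd_coprimes (Nat.Coprime.pow_left k (Nat.coprime_two_left.2 D.odd)) h2 h1
  rw [orderOf_eq_one_iff] at h3
  subst h3
  simpa using ha

theorem psi_A {a : N} (ha : a ∈ D.A) : D.ψ a = 1 :=
  (D.ker.symm ▸ (le_sup_left : D.A ≤ D.A ⊔ D.O)) ha

/-- Conjugation on `A`. -/
def conjAut : N →* MulAut D.A := @MulAut.conjNormal N _ D.A D.normA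

theorem conjAut_apply (g : N) (a : D.A) : ((D.conjAut g a : D.A) : N) = g * a * g⁻¹ :=
  @MulAut.conjNormal_apply N _ D.A D.normA g a

theorem ker_le_conjAut : D.ψ.ker ≤ D.conjAut.ker := by
  intro x hx
  obtain ⟨a, ha, o, ho, rfl⟩ := D.mem_ker hx
  rw [MonoidHom.mem_ker]
  refine MulEquiv.ext fun b => Subtype.ext ?_
  rw [conjAut_apply]
  show a * o * b * (a * o)⁻¹ = b
  rw [mul_assoc a o, ← D.commute_O b.2 ho, ← mul_assoc a, D.commute_A ha b.2, mul_inv_rev]
  group

/-- The action of `A₅` on `A`. -/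
noncomputable def rho : alternatingGroup (Fin 5) →* MulAut D.A :=
  (MonoidHom.liftOfSurjective D.ψ D.surj) ⟨D.conjAut, D.ker_le_conjAut⟩

theorem rho_apply (g : N) (a : D.A) : ((D.rho (D.ψ g) a : D.A) : N) = g * a * g⁻¹ := by
  have h : D.rho (D.ψ g) = D.conjAut g :=
    D.ψ.liftOfRightInverse_comp_apply (Function.surjInv D.surj) (Function.rightInverse_surjInv D.surj)
      ⟨D.conjAut, D.ker_le_conjAut⟩ g
  rw [h, conjAut_apply]

theorem rho_injective (hnc : ¬ D.A ≤ center N) : Function.Injective D.rho := by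
  haveI : IsSimpleGroup (alternatingGroup (Fin 5)) := alternatingGroup.isSimpleGroup_five
  rw [← MonoidHom.ker_eq_bot_iff]
  refine (D.rho.normal_ker.eq_bot_or_eq_top).resolve_right fun htop => hnc fun a ha => ?_
  rw [mem_center_iff]
  intro g
  have h := D.rho_apply g ⟨a, ha⟩
  have h1 : D.rho (D.ψ g) = 1 := (MonoidHom.mem_ker).1 (htop ▸ mem_top _)
  rw [h1, MulAut.one_apply] at h
  exact (eq_mul_inv_iff_mul_eq.1 h).symm

theorem sq_A (a : D.A) : a * a = 1 := Subtype.ext (by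
  rw [Subgroup.coe_mul, ← pow_two]; exact D.sq _ a.2)

/-- The centraliser of `A` is the kernel. -/
theorem psi_eq_one (hnc : ¬ D.A ≤ center N) {x : N} (hx : ∀ a ∈ D.A, x * a = a * x) : D.ψ x = 1 := by
  refine (D.rho_injective hnc) ?_
  rw [map_one]
  refine MulEquiv.ext fun a => Subtype.ext ?_
  rw [rho_apply, MulAut.one_apply, hx a a.2, mul_inv_cancel_right]

/-- In a Sylow 2-subgroup, `A` is self-centralising. -/
theorem centralizer_le (hnc : ¬ D.A ≤ center N) {Q : Subgroup N} (hQ : IsPGroup 2 Q) (hAQ : D.A ≤ Q) {x : N} (hx : x ∈ Q)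
    (h : ∀ a ∈ D.A, x * a = a * x) : x ∈ D.A := D.ker_two hQ hAQ hx (D.psi_eq_one hnc h)

/-- `A` lies in every Sylow 2-subgroup. -/
theorem A_le (P : Sylow 2 N) : D.A ≤ P := by
  haveI := D.normA
  exact (IsPGroup.of_card (n := 4) (p := 2) (D.card.trans rfl)).le_sylow_of_normal P

/-- The involutions outside the kernel are conjugate. -/
theorem outside_conj (hnc : ¬ D.A ≤ center N) {s t : N} (hs : s * s = 1) (hsψ : D.ψ s ≠ 1) (ht : t * t = 1) (htψ : D.ψ t ≠ 1) :
    IsConj s t := by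
  haveI := Fact.mk Nat.prime_two
  obtain ⟨g, hg⟩ := conj_involutions (D.ψ s) (D.ψ t) (by rw [← map_mul, hs, map_one]) hsψ
    (by rw [← map_mul, ht, map_one]) htψ
  obtain ⟨n, rfl⟩ := D.surj g
  set t' := n * s * n⁻¹ with ht'def
  have hψ : D.ψ t' = D.ψ t := by rw [ht'def, map_mul, map_mul, map_inv, hg]
  have ht' : t' * t' = 1 := by rw [ht'def, ← pow_two, conj_pow, pow_two, hs]; group
  refine (isConj_iff.2 ⟨n, rfl⟩ : IsConj s t').trans ?_
  set H := (zpowers (D.ψ t)).comap D.ψ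
  have htH : t ∈ H := mem_zpowers _
  have ht'H : t' ∈ H := by show D.ψ t' ∈ zpowers (D.ψ t); rw [hψ]; exact mem_zpowers _
  -- 2-subgroups of `H` generated by `A` and an involution
  have key : ∀ u : N, u * u = 1 → ∀ huH : u ∈ H, ∃ Q : Sylow 2 H, (⟨u, huH⟩ : H) ∈ Q ∧ D.A.subgroupOf H ≤ Q := by
    intro u hu huH
    haveI := D.normA
    haveI : (D.A.subgroupOf H).Normal := inferInstance
    have hp1 : IsPGroup 2 (D.A.subgroupOf H) :=
      (IsPGroup.of_card (n := 4) (p := 2) (D.card.trans rfl)).comap_of_injective _ H.subtype_injective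
    have hp2 : IsPGroup 2 (zpowers (⟨u, huH⟩ : H)) := by
      intro y
      refine ⟨1, ?_⟩
      obtain ⟨k, hk⟩ := y.2
      refine Subtype.ext ?_
      show (y : H) ^ 2 ^ 1 = 1
      rw [pow_one]
      have h1 : (⟨u, huH⟩ : H) ^ 2 = 1 := Subtype.ext ((pow_two u).trans hu)
      rw [← hk, ← zpow_natCast, ← zpow_mul, mul_comm, zpow_mul, zpow_natCast, h1, one_zpow]
    obtain ⟨Q, hQ⟩ := (hp1.to_sup_of_normal_left hp2).exists_le_sylow
    exact ⟨Q, hQ (mem_sup_right (mem_zpowers _)), fun y hy => hQ (mem_sup_left hy)⟩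
  obtain ⟨Q, htQ, -⟩ := key t ht htH
  obtain ⟨Q', ht'Q, hAQ'⟩ := key t' ht' ht'H
  obtain ⟨h, hh⟩ := MulAction.exists_smul_eq H Q Q'
  set u : H := h * ⟨t, htH⟩ * h⁻¹ with hu
  have huQ : u ∈ (Q' : Subgroup H) := by
    rw [← hh, Sylow.coe_subgroup_smul]
    exact (Subgroup.mem_map).2 ⟨⟨t, htH⟩, htQ, rfl⟩
  -- the conjugate has the same image
  have huψ : D.ψ (u : N) = D.ψ t' := by
    obtain ⟨k, hk⟩ := mem_zpowers_iff.1 (h.2 : D.ψ (h : N) ∈ zpowers (D.ψ t))
    rw [hψ, hu, Subgroup.coe_mul, Subgroup.coe_mul, InvMemClass.coe_inv, map_mul, map_mul, map_inv,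
      ← hk]
    group
  set Qm : Subgroup N := (Q' : Subgroup H).map H.subtype
  have hQm : IsPGroup 2 Qm := Q'.2.map _
  have hAQm : D.A ≤ Qm := fun a ha =>
    mem_map.2 ⟨⟨a, show D.ψ a ∈ zpowers (D.ψ t) by rw [D.psi_A ha]; exact one_mem _⟩, hAQ' ha, rfl⟩
  set a := (u : N) * t' with ha'
  have hamem : a ∈ D.A := D.ker_two hQm hAQm
    (mul_mem (mem_map.2 ⟨u, huQ, rfl⟩) (mem_map.2 ⟨_, ht'Q, rfl⟩)) (by
      rw [ha', map_mul, huψ, ← map_mul, ht', map_one])
  have huu : (u : N) * u = 1 := by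
    rw [hu, Subgroup.coe_mul, Subgroup.coe_mul, InvMemClass.coe_inv, ← pow_two, conj_pow, pow_two]
    show (h : N) * (t * t) * (h : N)⁻¹ = 1
    rw [ht]; group
  have hinv : t'⁻¹ = t' := inv_eq_of_mul_eq_one_right ht'
  have huin : (u : N)⁻¹ = u := inv_eq_of_mul_eq_one_right huu
  have hua : (u : N) = a * t' := by rw [ha', mul_assoc, ht', mul_one]
  have hainv : a⁻¹ = a := by
    rw [inv_eq_iff_mul_eq_one, ← pow_two]; exact D.sq a hamem
  have hfix : D.rho (D.ψ t') ⟨a, hamem⟩ = ⟨a, hamem⟩ := by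
    refine Subtype.ext ?_
    rw [rho_apply, hinv]
    show t' * a * t' = a
    conv_rhs => rw [← hainv]
    rw [ha', mul_inv_rev, hinv, huin]
    simp only [mul_assoc, ht', mul_one]
  haveI := D.comm
  letI : CommGroup D.A := { (inferInstance : Group D.A) with mul_comm := mul_comm' }
  obtain ⟨b, hb⟩ := exists_eq_mul D.sq_A D.card D.rho (D.rho_injective hnc)
    (s := D.ψ t') (by rw [← map_mul, ht', map_one]) (by rw [hψ]; exact htψ) hfix
  have hb' : a = (b : N) * (t' * b * t'⁻¹) := by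
    have := congrArg Subtype.val hb
    rwa [Subgroup.coe_mul, rho_apply] at this
  have hbinv : (b : N)⁻¹ = b := by rw [inv_eq_iff_mul_eq_one, ← pow_two]; exact D.sq _ b.2
  have hconj : IsConj t' (u : N) := isConj_iff.2 ⟨b, by rw [hua, hb', hbinv]; group⟩
  exact hconj.trans (isConj_iff.2 ⟨(h : N), rfl⟩ : IsConj t (u : N)).symm

/-- Among three nontrivial elements of `A` two are conjugate. -/
theorem three_conj (hnc : ¬ D.A ≤ center N) {a b c : N} (ha : a ∈ D.A) (hb : b ∈ D.A) (hc : c ∈ D.A) (ha1 : a ≠ 1) (hb1 : b ≠ 1)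
    (hc1 : c ≠ 1) : IsConj a b ∨ IsConj a c ∨ IsConj b c := by
  haveI := D.comm
  letI : CommGroup D.A := { (inferInstance : Group D.A) with mul_comm := mul_comm' }
  obtain ⟨g, hg⟩ := three_related D.card D.rho (D.rho_injective hnc) (a := ⟨a, ha⟩) (b := ⟨b, hb⟩)
    (c := ⟨c, hc⟩) (fun h => ha1 (congrArg Subtype.val h)) (fun h => hb1 (congrArg Subtype.val h))
    (fun h => hc1 (congrArg Subtype.val h))
  obtain ⟨n, rfl⟩ := D.surj g
  have key : ∀ {x y : D.A}, D.rho (D.ψ n) x = y → IsConj (x : N) (y : N) := fun {x y} h =>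
    isConj_iff.2 ⟨n, by rw [← h, rho_apply]⟩
  rcases hg with h | h | h
  exacts [Or.inl (key h), Or.inr (Or.inl (key h)), Or.inr (Or.inr (key h))]

/-- A normal subgroup mapping onto `A₅` acts irreducibly on `A`. -/
theorem irreducible (hnc : ¬ D.A ≤ center N) {M : Subgroup N} (hM : M.map D.ψ = ⊤) {B : Subgroup N} (hBA : B ≤ D.A)
    (hinv : ∀ m ∈ M, ∀ x ∈ B, m * x * m⁻¹ ∈ B) : B = ⊥ ∨ B = D.A := by
  haveI := D.comm
  letI : CommGroup D.A := { (inferInstance : Group D.A) with mul_comm := mul_comm' }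
  obtain ⟨y, hy, hy1⟩ := exists_five
  have hym : y ∈ M.map D.ψ := hM ▸ mem_top y
  obtain ⟨m, hm, rfl⟩ := mem_map.1 hym
  rcases invariant_bot_top D.card D.rho (D.rho_injective hnc) hy hy1 (B.subgroupOf D.A) (fun a ha => by
    rw [mem_subgroupOf, rho_apply]; exact hinv m hm _ ha) with h | h
  · left
    rw [subgroupOf_eq_bot, disjoint_iff, inf_eq_left.2 hBA] at h
    exact h
  · exact Or.inr (le_antisymm hBA (subgroupOf_eq_top.1 h))

/-- A normal subgroup mapping onto `A₅` and containing `A` contains every 2-element. -/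
theorem contains_two {M : Subgroup N} [M.Normal] (hAM : D.A ≤ M) (hM : M.map D.ψ = ⊤) {x : N} {k : ℕ}
    (hx : x ^ 2 ^ k = 1) : x ∈ M := by
  have h1 : D.ψ x ∈ M.map D.ψ := hM ▸ mem_top _
  obtain ⟨m, hm, hmx⟩ := mem_map.1 h1
  obtain ⟨a, ha, o, ho, he⟩ := D.mem_ker (show D.ψ (m⁻¹ * x) = 1 by rw [map_mul, map_inv, hmx, inv_mul_cancel])
  have hxe : x = m * a * o := by rw [mul_assoc, ← he]; group
  have hma : m * a ∈ M := mul_mem hm (hAM ha)
  have hq : ((o : N) : N ⧸ M) = (x : N ⧸ M) := by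
    rw [hxe, QuotientGroup.mk_mul, (QuotientGroup.eq_one_iff _).2 hma, one_mul]
  have h2 : orderOf (o : N ⧸ M) ∣ 2 ^ k := orderOf_dvd_of_pow_eq_one (by
    rw [hq, ← QuotientGroup.mk_pow, hx, QuotientGroup.mk_one])
  have h3 : orderOf (o : N ⧸ M) ∣ Nat.card D.O :=
    (orderOf_map_dvd (QuotientGroup.mk' M) o).trans (orderOf_dvd_natCard _ ho)
  have h4 := Nat.eq_one_of_dvd_coprimes (Nat.Coprime.pow_left k (Nat.coprime_two_left.2 D.odd)) h2 h3
  rw [orderOf_eq_one_iff, hq, QuotientGroup.eq_one_iff] at h4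
  exact h4

include D in
/-- A Sylow 2-subgroup has order 64. -/
theorem card_sylow (P : Sylow 2 N) : Nat.card P = 64 := by
  haveI := Fact.mk Nat.prime_two
  let P' := P.mapSurjective D.surj
  have h4 : Nat.card P' = 4 := by
    rw [P'.card_eq_multiplicity, show Nat.card (alternatingGroup (Fin 5)) = 60 by
      rw [nat_card_alternatingGroup, Nat.card_eq_fintype_card, Fintype.card_fin]; rfl,
      show 60 = 2 ^ 2 * 15 from rfl, Nat.factorization_mul (by norm_num) (by norm_num),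
      Nat.Prime.factorization_pow Nat.prime_two, Finsupp.add_apply, Finsupp.single_eq_same,
      Nat.factorization_eq_zero_of_not_dvd (by norm_num : ¬ 2 ∣ 15)]
    rfl
  have hker : (D.ψ.domRestrict (P : Subgroup N)).ker = D.A.subgroupOf P := by
    ext x
    rw [MonoidHom.mem_ker, mem_subgroupOf, MonoidHom.domRestrict_apply]
    exact ⟨fun h => D.ker_two P.2 (D.A_le P) x.2 h, fun h => D.psi_A h⟩
  have h := Subgroup.card_mul_index (D.ψ.domRestrict (P : Subgroup N)).ker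
  rw [index_ker, hker, Nat.card_congr (subgroupOfEquivOfLe (D.A_le P)).toEquiv, D.card,
    MonoidHom.domRestrict_range] at h
  rw [← h, ← Sylow.coe_mapSurjective D.surj P]
  show 16 * Nat.card P' = 64
  rw [h4]

end LData

end Cfsg.Agent.AltEightClosed
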