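/-
A Sylow 2-subgroup of the alternating group of degree 8 has no central subgroup of index at most 4.
-/
import Cfsg.Agent.Lib.AltEightSylow.Basic

set_option autoImplicit false

namespace Cfsg.Agent.AltEightClosed

open Equiv Subgroup Cfsg.Agent.AltEightSylow

/-- An element with three conjugates under two others. -/
theorem witness : ∃ a ∈ P0, ∃ b ∈ P0, ∃ d ∈ P0,
    b * a ≠ a * b ∧ d * a ≠ a * d ∧ b * a * b⁻¹ ≠ d * a * d⁻¹ := by
  have ha : ∃ n, ∀ x, word n x = (swap 0 1 * swap 4 5 : Perm (Fin 8)) x := by decide +kernel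
  have hb : ∃ n, ∀ x, word n x = (swap 0 2 * swap 1 3 : Perm (Fin 8)) x := by decide +kernel
  have hd : ∃ n, ∀ x, word n x = (swap 4 6 * swap 5 7 : Perm (Fin 8)) x := by decide +kernel
  obtain ⟨na, ha⟩ := ha
  obtain ⟨nb, hb⟩ := hb
  obtain ⟨nd, hd⟩ := hd
  refine ⟨_, Equiv.ext ha ▸ word_mem na, _, Equiv.ext hb ▸ word_mem nb, _,
    Equiv.ext hd ▸ word_mem nd, ?_, ?_, ?_⟩
  · intro h; exact absurd (congrArg (fun e : Perm (Fin 8) => e 0) h) (by decide +kernel)
  · intro h; exact absurd (congrArg (fun e : Perm (Fin 8) => e 4) h) (by decide +kernel)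
  · intro h; exact absurd (congrArg (fun e : Perm (Fin 8) => e 0) h) (by decide +kernel)

theorem natCard_alt_eight : Nat.card (alternatingGroup (Fin 8)) = 20160 := by
  rw [nat_card_alternatingGroup, Nat.card_eq_fintype_card, Fintype.card_fin]
  rfl

theorem factorization_alt_eight : (Nat.card (alternatingGroup (Fin 8))).factorization 2 = 6 := by
  rw [natCard_alt_eight, show 20160 = 2 ^ 6 * 315 from rfl,
    Nat.factorization_mul (by norm_num) (by norm_num), Nat.Prime.factorization_pow Nat.prime_two,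
    Finsupp.add_apply, Finsupp.single_eq_same,
    Nat.factorization_eq_zero_of_not_dvd (by norm_num : ¬ 2 ∣ 315), add_zero]

theorem natCard_sylow (P : Sylow 2 (alternatingGroup (Fin 8))) :
    Nat.card (P : Subgroup (alternatingGroup (Fin 8))) = 64 := by
  haveI := Fact.mk Nat.prime_two
  rw [P.card_eq_multiplicity, factorization_alt_eight]; rfl

theorem nonempty_iso_P0 (P : Sylow 2 (alternatingGroup (Fin 8))) :
    Nonempty ((P : Subgroup (alternatingGroup (Fin 8))) ≃* P0) := by
  haveI := Fact.mk Nat.prime_two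
  let Q : Sylow 2 (alternatingGroup (Fin 8)) := Sylow.ofCard (P0.subgroupOf (alternatingGroup (Fin 8)))
    (by rw [Nat.card_congr (subgroupOfEquivOfLe P0_le).toEquiv, natCard_P0, factorization_alt_eight]; rfl)
  exact ⟨(P.equiv Q).trans (subgroupOfEquivOfLe P0_le)⟩

/-- A group isomorphic to a Sylow 2-subgroup of `A₈` has no central subgroup of index at most 4. -/
theorem four_lt_index {S : Type*} [Group S] [Finite S] (P : Sylow 2 (alternatingGroup (Fin 8)))
    (e : S ≃* (P : Subgroup (alternatingGroup (Fin 8)))) (Z : Subgroup S) (hZ : Z ≤ center S) :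
    4 < Z.index := by
  by_contra hcon
  obtain ⟨e0⟩ := nonempty_iso_P0 P
  let φ := e.trans e0
  obtain ⟨a, ha, b, hb, d, hd, hab, had, habd⟩ := witness
  set x := φ.symm ⟨a, ha⟩ with hx
  set g₁ := φ.symm ⟨b, hb⟩ with hg₁
  set g₂ := φ.symm ⟨d, hd⟩ with hg₂
  have h1 : g₁ * x ≠ x * g₁ := by
    rw [hx, hg₁, ← map_mul, ← map_mul]
    exact fun h => hab (congrArg Subtype.val (φ.symm.injective h))
  have h2 : g₂ * x ≠ x * g₂ := by
    rw [hx, hg₂, ← map_mul, ← map_mul]
    exact fun h => had (congrArg Subtype.val (φ.symm.injective h))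
  have h3 : g₁ * x * g₁⁻¹ ≠ g₂ * x * g₂⁻¹ := by
    rw [hx, hg₁, hg₂, ← map_mul, ← map_mul, ← map_inv, ← map_inv, ← map_mul, ← map_mul]
    exact fun h => habd (congrArg Subtype.val (φ.symm.injective h))
  set C := centralizer ({x} : Set S)
  have hxC : x ∈ C := mem_centralizer_singleton_iff.2 rfl
  have hZC : Z ≤ C := fun z hz => mem_centralizer_singleton_iff.2 (mem_center_iff.1 (hZ hz) x).symm
  have hxZ : x ∉ Z := fun h => h1 (mem_center_iff.1 (hZ h) g₁)
  have hr : 2 ≤ Z.relIndex C := by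
    have h0 : Z.relIndex C ≠ 0 := by
      rw [relIndex]; exact index_ne_zero_of_finite
    have hne : Z.relIndex C ≠ 1 := fun h => hxZ (relIndex_eq_one.1 h hxC)
    omega
  have hi : C.index ≤ 2 := by
    have := relIndex_mul_index hZC
    nlinarith
  have hg₁C : g₁ ∉ C := fun h => h1 (mem_centralizer_singleton_iff.1 h)
  have hg₂C : g₂ ∉ C := fun h => h2 (mem_centralizer_singleton_iff.1 h)
  have hC2 : C.index = 2 := by
    have h0 : C.index ≠ 0 := index_ne_zero_of_finite
    have : C.index ≠ 1 := fun h => hg₁C (index_eq_one.1 h ▸ mem_top g₁)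
    omega
  have hm : g₁⁻¹ * g₂ ∈ C := by
    rw [mul_mem_iff_of_index_two hC2, inv_mem_iff]
    exact iff_of_false hg₁C hg₂C
  have hcomm := mem_centralizer_singleton_iff.1 hm
  refine h3 ?_
  calc g₁ * x * g₁⁻¹ = g₁ * (x * (g₁⁻¹ * g₂)) * g₂⁻¹ := by group
    _ = g₁ * ((g₁⁻¹ * g₂) * x) * g₂⁻¹ := by rw [hcomm]
    _ = g₂ * x * g₂⁻¹ := by group

end Cfsg.Agent.AltEightClosed
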