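/-
Three classes of involutions, a Sylow 2-subgroup of type `A₈`, and `A₅` on an elementary abelian group of order 16.
-/
import Cfsg.Agent.Lib.AltEightClosed.Witness
import Cfsg.Agent.Lib.AltEightClosed.Local
import Cfsg.Agent.Lib.AltEightClosed.Abstract

set_option autoImplicit false

namespace Cfsg.Agent.AltEightClosed

open Cfsg Subgroup
open scoped Pointwise

universe u

variable {G : Type u} [Group G] [Finite G]

/-- Two-subgroups of `Q ⊔ K`, for `K` normal of odd order, move into `Q`. -/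
theorem conj_into {K : Subgroup G} [K.Normal] (hK : Odd (Nat.card K)) {Q R : Subgroup G}
    (hQ : IsPGroup 2 Q) (hR : IsPGroup 2 R) (hRle : R ≤ Q ⊔ K) :
    ∃ h ∈ Q ⊔ K, ∀ x ∈ R, h * x * h⁻¹ ∈ Q := by
  haveI := Fact.mk Nat.prime_two
  obtain ⟨k, hk⟩ := IsPGroup.iff_card.1 hQ
  have hdis : Q ⊓ K = ⊥ := by
    rw [← disjoint_iff]
    refine disjoint_of_coprime_natCard ?_
    rw [hk]
    exact Nat.Coprime.pow_left k (Nat.coprime_two_left.2 hK)
  have h1 : K.relIndex Q = Nat.card Q := by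
    rw [relIndex, subgroupOf_eq_bot.2 (disjoint_iff.2 (by rw [inf_comm]; exact hdis)), index_bot]
  have h2 := card_mul_index (K.subgroupOf (Q ⊔ K))
  rw [Nat.card_congr (subgroupOfEquivOfLe (le_sup_right : K ≤ Q ⊔ K)).toEquiv, ← relIndex,
    relIndex_sup_right, h1] at h2
  have h3 := card_mul_index (Q.subgroupOf (Q ⊔ K))
  rw [Nat.card_congr (subgroupOfEquivOfLe (le_sup_left : Q ≤ Q ⊔ K)).toEquiv, ← h2,
    mul_comm (Nat.card K) (Nat.card Q)] at h3
  have h4 : (Q.subgroupOf (Q ⊔ K)).index = Nat.card K := Nat.eq_of_mul_eq_mul_left Nat.card_pos h3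
  let P := (hQ.comap_of_injective _ (Q ⊔ K).subtype_injective).toSylow
    (show ¬ 2 ∣ (Q.subgroupOf (Q ⊔ K)).index by rw [h4]; exact hK.not_two_dvd_nat)
  obtain ⟨P', hP'⟩ := (hR.comap_of_injective _ (Q ⊔ K).subtype_injective).exists_le_sylow
  obtain ⟨h, hh⟩ := MulAction.exists_smul_eq ↥(Q ⊔ K) P' P
  refine ⟨h, h.2, fun x hx => ?_⟩
  have hm : h * ⟨x, hRle hx⟩ * h⁻¹ ∈ (P : Subgroup ↥(Q ⊔ K)) := by
    rw [← hh, Sylow.coe_subgroup_smul]
    exact (Subgroup.mem_map).2 ⟨⟨x, hRle hx⟩, hP' hx, rfl⟩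
  exact hm

theorem of_gold (hGold : GoldTarget.{u}) (S : Sylow 2 G) (P : Sylow 2 ↥(alternatingGroup (Fin 8)))
    (hS : Nonempty (↥(S : Subgroup G) ≃* ↥(P : Subgroup ↥(alternatingGroup (Fin 8)))))
    (h3 : Nat.card {c : ConjClasses G // ∃ x ∈ c.carrier, orderOf x = 2} = 3)
    (A : Subgroup G) (hA : Cfsg.IsElementaryAbelian 2 A) (hA16 : Nat.card ↥A = 16)
    (N : Subgroup G) (hN : N = Subgroup.normalizer (A : Set G))
    (hNA : ∃ (_ : (A.subgroupOf N ⊔ Cfsg.oddCore ↥N).Normal),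
      Nonempty (↥N ⧸ (A.subgroupOf N ⊔ Cfsg.oddCore ↥N) ≃* ↥(alternatingGroup (Fin 5)))) :
    (A ⊔ Cfsg.oddCore G).Normal := by
  haveI := Fact.mk Nat.prime_two
  obtain ⟨hnorm, ⟨e⟩⟩ := hNA
  haveI := hnorm
  obtain ⟨iso⟩ := hS
  obtain ⟨hAc, hAsq⟩ := hA
  have hAN : A ≤ N := hN ▸ le_normalizer
  have memN : ∀ {n : G}, (∀ x, x ∈ A ↔ n * x * n⁻¹ ∈ A) → n ∈ N := fun {n} h => hN ▸ mem_normalizer_iff.2 h
  have ofN : ∀ {n : G}, n ∈ N → ∀ x, x ∈ A ↔ n * x * n⁻¹ ∈ A := fun {n} h =>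
    mem_normalizer_iff.1 (hN ▸ h)
  haveI hAnorm : (A.subgroupOf N).Normal := ⟨fun x hx n => (ofN n.2 x).1 hx⟩
  have hcardA : Nat.card (A.subgroupOf N) = 16 :=
    (Nat.card_congr (subgroupOfEquivOfLe hAN).toEquiv).trans hA16
  let D : LData ↥N :=
    { A := A.subgroupOf N
      O := Cfsg.oddCore ↥N
      ψ := e.toMonoidHom.comp (QuotientGroup.mk' _)
      normA := hAnorm
      normO := Cores.pPrimeCore_normal 2 ↥N
      comm := ⟨⟨fun x y => Subtype.ext (Subtype.ext (by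
        show ((x : N) : G) * ((y : N) : G) = ((y : N) : G) * ((x : N) : G)
        haveI := hAc
        exact congrArg Subtype.val (mul_comm' (⟨((x : N) : G), x.2⟩ : A) ⟨((y : N) : G), y.2⟩)))⟩⟩
      sq := fun a ha => Subtype.ext (hAsq _ ha)
      card := hcardA
      odd := Nat.coprime_two_right.1 (Cores.coprime_card_pPrimeCore 2)
      surj := e.surjective.comp (QuotientGroup.mk'_surjective _)
      ker := by
        rw [← MonoidHom.comap_ker, (MonoidHom.ker_eq_bot_iff _).2 e.injective, MonoidHom.comap_bot,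
          QuotientGroup.ker_mk'] }
  -- a Sylow 2-subgroup of `G` inside `N`
  have hS64 : Nat.card S = 64 := by rw [Nat.card_congr iso.toEquiv]; exact natCard_sylow P
  obtain ⟨P₁⟩ : Nonempty (Sylow 2 ↥N) := inferInstance
  set SN : Subgroup G := (P₁ : Subgroup ↥N).map N.subtype with hSN
  have hSN64 : Nat.card SN = 64 := by
    rw [hSN, card_map_of_injective N.subtype_injective]; exact D.card_sylow P₁
  let S₁ : Sylow 2 G := Sylow.ofCard SN (by rw [hSN64, ← hS64]; exact S.card_eq_multiplicity)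
  have hS₁ : (S₁ : Subgroup G) = SN := rfl
  have hSN_le : SN ≤ N := map_subtype_le _
  have memP₁ : ∀ {x : G} (hx : x ∈ SN), (⟨x, hSN_le hx⟩ : N) ∈ (P₁ : Subgroup ↥N) := by
    intro x hx
    obtain ⟨y, hy, hyx⟩ := mem_map.1 hx
    obtain rfl : y = ⟨x, hSN_le hx⟩ := Subtype.ext hyx
    exact hy
  have hASN : A ≤ SN := fun a ha => mem_map.2 ⟨⟨a, hAN ha⟩, D.A_le P₁ ha, rfl⟩
  have hnc : ¬ D.A ≤ center ↥N := by
    intro hc
    let f : (P₁ : Subgroup ↥N) ≃* (P : Subgroup ↥(alternatingGroup (Fin 8))) :=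
      (((P₁ : Subgroup ↥N).equivMapOfInjective N.subtype N.subtype_injective).trans (S₁.equiv S)).trans iso
    have hlt := four_lt_index P f (D.A.subgroupOf P₁)
      (fun x hx => mem_center_iff.2 fun y => Subtype.ext (mem_center_iff.1 (hc hx) y))
    have hmul := card_mul_index (D.A.subgroupOf P₁)
    rw [Nat.card_congr (subgroupOfEquivOfLe (D.A_le P₁)).toEquiv, D.card, D.card_sylow P₁] at hmul
    omega
  have conj_S : ∀ x : G, orderOf x = 2 → ∃ g : G, g * x * g⁻¹ ∈ SN := by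
    intro x hx
    have hp : IsPGroup 2 (zpowers x) :=
      IsPGroup.of_card (n := 1) (p := 2) (by rw [Nat.card_zpowers, hx, pow_one])
    obtain ⟨Q, hQ⟩ := hp.exists_le_sylow
    obtain ⟨g, hg⟩ := MulAction.exists_smul_eq G Q S₁
    refine ⟨g, ?_⟩
    rw [← hS₁, ← hg, Sylow.coe_subgroup_smul]
    exact (Subgroup.mem_map).2 ⟨x, hQ (mem_zpowers _), rfl⟩
  have ord_conj : ∀ g x : G, orderOf (g * x * g⁻¹) = orderOf x := fun g x => by
    rw [← MulAut.conj_apply, (MulAut.conj g).orderOf_eq]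
  have eqv := (Finite.equivFinOfCardEq h3).symm
  choose rep hrep hrep2 using fun i => (eqv i).2
  have hclass : ∀ i j, IsConj (rep i) (rep j) → i = j := by
    intro i j h
    refine eqv.injective (Subtype.ext ?_)
    rw [← ConjClasses.mem_carrier_iff_mk_eq.1 (hrep i), ← ConjClasses.mem_carrier_iff_mk_eq.1 (hrep j)]
    exact ConjClasses.mk_eq_mk_iff_isConj.2 h
  have rsq : ∀ i, rep i ^ 2 = 1 := fun i => orderOf_dvd_iff_pow_eq_one.1 (hrep2 i).dvd
  -- `A` is strongly closed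
  have hsc : Cfsg.IsStronglyClosed A SN := by
    refine ⟨hASN, fun x hx g hg => ?_⟩
    by_contra hy
    have hy1 : g * x * g⁻¹ ≠ 1 := fun h => hy (h ▸ one_mem A)
    have hxx : x * x = 1 := by rw [← pow_two]; exact hAsq x hx
    set y : N := ⟨_, hSN_le hg⟩ with hydef
    have hyy : y * y = 1 := Subtype.ext (by
      show g * x * g⁻¹ * (g * x * g⁻¹) = 1
      rw [show g * x * g⁻¹ * (g * x * g⁻¹) = g * (x * x) * g⁻¹ by group, hxx]; group)
    have hyψ : D.ψ y ≠ 1 := fun h => hy (D.ker_two P₁.2 (D.A_le P₁) (memP₁ hg) h)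
    have toA : ∀ u : G, orderOf u = 2 → ∃ a ∈ A, a ≠ 1 ∧ IsConj u a := by
      intro u hu
      obtain ⟨h, hh⟩ := conj_S u hu
      have hu2 : orderOf (h * u * h⁻¹) = 2 := by rw [ord_conj, hu]
      have hu1 : h * u * h⁻¹ ≠ 1 := fun e1 => by
        rw [e1, orderOf_one] at hu2; exact absurd hu2 (by norm_num)
      by_cases hua : h * u * h⁻¹ ∈ A
      · exact ⟨_, hua, hu1, isConj_iff.2 ⟨h, rfl⟩⟩
      · have hw : (⟨_, hSN_le hh⟩ : N) * ⟨_, hSN_le hh⟩ = 1 := Subtype.ext (by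
          show h * u * h⁻¹ * (h * u * h⁻¹) = 1
          rw [← pow_two, ← hu2]; exact pow_orderOf_eq_one _)
        have hwψ : D.ψ (⟨_, hSN_le hh⟩ : N) ≠ 1 := fun e1 =>
          hua (D.ker_two P₁.2 (D.A_le P₁) (memP₁ hh) e1)
        refine ⟨x, hx, fun e1 => hy1 (by rw [e1]; group), ?_⟩
        exact (isConj_iff.2 ⟨h, rfl⟩ : IsConj u (h * u * h⁻¹)).trans
          ((MonoidHom.map_isConj N.subtype (D.outside_conj hnc hw hwψ hyy hyψ)).trans
            (isConj_iff.2 ⟨g, rfl⟩ : IsConj x (g * x * g⁻¹)).symm)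
    choose a ha ha1 haconj using fun i => toA (rep i) (hrep2 i)
    have key : ∀ {i j}, IsConj (⟨a i, hAN (ha i)⟩ : N) ⟨a j, hAN (ha j)⟩ → i = j := fun {i j} h =>
      hclass i j ((haconj i).trans ((MonoidHom.map_isConj N.subtype h).trans (haconj j).symm))
    rcases D.three_conj hnc (a := ⟨a 0, hAN (ha 0)⟩) (b := ⟨a 1, hAN (ha 1)⟩) (c := ⟨a 2, hAN (ha 2)⟩)
      (ha 0) (ha 1) (ha 2) (fun h => ha1 0 (congrArg Subtype.val h)) (fun h => ha1 1 (congrArg Subtype.val h))
      (fun h => ha1 2 (congrArg Subtype.val h)) with h | h | h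
    · exact absurd (key h) (by decide)
    · exact absurd (key h) (by decide)
    · exact absurd (key h) (by decide)
  have hAS₁ : ∀ x ∈ SN, ∀ a ∈ A, x * a * x⁻¹ ∈ A := fun x hx a ha => (ofN (hSN_le hx) a).1 ha
  have hCA : ∀ x ∈ SN, (∀ a ∈ A, x * a = a * x) → x ∈ A := fun x hx h =>
    D.centralizer_le hnc P₁.2 (D.A_le P₁) (memP₁ hx) fun a ha => Subtype.ext (h _ ha)
  -- the quotient by the odd core
  set K := Cfsg.pPrimeCore 2 G with hKdef
  set π := QuotientGroup.mk' K with hπ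
  have hKodd : Odd (Nat.card K) := Nat.coprime_two_right.1 (Cores.coprime_card_pPrimeCore 2)
  have hπs : Function.Surjective π := QuotientGroup.mk'_surjective K
  have kerπ : ∀ {x : G}, π x = 1 ↔ x ∈ K := fun {x} => by
    rw [hπ, QuotientGroup.mk'_apply, QuotientGroup.eq_one_iff]
  have hdisK : ∀ x ∈ SN, x ∈ K → x = 1 := by
    intro x hx hxK
    have h1 : orderOf x ∣ Nat.card SN := orderOf_dvd_natCard _ hx
    have h2 : orderOf x ∣ Nat.card K := orderOf_dvd_natCard _ hxK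
    rw [hSN64, show 64 = 2 ^ 6 from rfl] at h1
    exact orderOf_eq_one_iff.1
      (Nat.eq_one_of_dvd_coprimes (Nat.Coprime.pow_left 6 (Nat.coprime_two_left.2 hKodd)) h1 h2)
  have inj : ∀ x ∈ SN, ∀ y ∈ SN, π x = π y → x = y := fun x hx y hy h =>
    mul_inv_eq_one.1 (hdisK _ (mul_mem hx (inv_mem hy))
      (kerπ.1 (by rw [map_mul, map_inv, h, mul_inv_cancel])))
  have supmem : ∀ {Q : Subgroup G} {x : G}, π x ∈ Q.map π → x ∈ Q ⊔ K := by
    intro Q x hx
    have h := mem_comap.2 hx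
    rwa [comap_map_eq, hπ, QuotientGroup.ker_mk'] at h
  have supmap : ∀ {Q : Subgroup G} {x : G}, x ∈ Q ⊔ K → π x ∈ Q.map π := by
    intro Q x hx
    refine mem_comap.1 ?_
    rwa [comap_map_eq, hπ, QuotientGroup.ker_mk']
  -- the normaliser of the image
  have normlift : ∀ n ∈ normalizer ((A.map π : Subgroup (G ⧸ K)) : Set (G ⧸ K)),
      ∃ m ∈ N, π m = n := by
    intro n hn
    obtain ⟨g, rfl⟩ := hπs n
    have hR : IsPGroup 2 (A.map (MulAut.conj g).toMonoidHom) :=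
      (IsPGroup.of_card (n := 4) (p := 2) (hA16.trans rfl)).map _
    obtain ⟨h, hh, hconj⟩ := conj_into hKodd (IsPGroup.of_card (n := 4) (p := 2) (hA16.trans rfl)) hR (by
      rintro - ⟨a, ha, rfl⟩
      refine supmem ?_
      show π (g * a * g⁻¹) ∈ A.map π
      rw [map_mul, map_mul, map_inv]
      exact (mem_normalizer_iff.1 hn _).1 ⟨a, ha, rfl⟩)
    have hfw : ∀ a ∈ A, h * g * a * (h * g)⁻¹ ∈ A := fun a ha => by
      rw [show h * g * a * (h * g)⁻¹ = h * (g * a * g⁻¹) * h⁻¹ by group]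
      exact hconj _ ⟨a, ha, rfl⟩
    have hm : h * g ∈ N := by
      refine memN fun z => ⟨hfw z, fun hz => ?_⟩
      have hmap : A.map (MulAut.conj (h * g)).toMonoidHom = A :=
        SetLike.ext' (Set.eq_of_subset_of_ncard_le (by rintro - ⟨a, ha, rfl⟩; exact hfw a ha) (by
          rw [← Nat.card_coe_set_eq, ← Nat.card_coe_set_eq, SetLike.coe_sort_coe, SetLike.coe_sort_coe,
            card_map_of_injective (MulAut.conj (h * g)).injective]) (Set.toFinite _))
      rw [← hmap] at hz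
      obtain ⟨a, ha, hae⟩ := mem_map.1 hz
      have : a = z := (MulAut.conj (h * g)).injective hae
      rwa [← this]
    obtain ⟨a, ha, hae⟩ := mem_map.1 (supmap hh)
    exact ⟨a⁻¹ * (h * g), mul_mem (inv_mem (hAN ha)) hm, by rw [map_mul, map_inv, map_mul, hae]; group⟩
  have dich : ∀ Mb : Subgroup (G ⧸ K), Mb.Normal → A.map π ≤ Mb →
      ((SN.map π) ≤ Mb ∧ ∀ B ≤ A.map π, (∀ n ∈ normalizer ((A.map π : Subgroup (G ⧸ K)) : Set (G ⧸ K)),
        n ∈ Mb → ∀ x ∈ B, n * x * n⁻¹ ∈ B) → B = ⊥ ∨ B = A.map π) ∨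
      (SN.map π ⊓ Mb ≤ A.map π ∧ ∀ n ∈ normalizer ((A.map π : Subgroup (G ⧸ K)) : Set (G ⧸ K)),
        n ∈ Mb → ∀ a ∈ A.map π, n * a = a * n) := by
    intro Mb hMb hAMb
    haveI := hMb
    set MN : Subgroup ↥N := (Mb.comap π).subgroupOf N with hMN
    haveI : MN.Normal := inferInstance
    haveI : IsSimpleGroup (alternatingGroup (Fin 5)) := alternatingGroup.isSimpleGroup_five
    rcases (Normal.map (inferInstance : MN.Normal) D.ψ D.surj).eq_bot_or_eq_top with hb | ht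
    · right
      have hψ1 : ∀ {m : G} (hm : m ∈ N), π m ∈ Mb → D.ψ ⟨m, hm⟩ = 1 := fun {m} hm h =>
        mem_bot.1 (hb ▸ mem_map.2 ⟨⟨m, hm⟩, h, rfl⟩)
      refine ⟨?_, ?_⟩
      · rintro - ⟨⟨x, hx, rfl⟩, hxM⟩
        exact mem_map.2 ⟨x, D.ker_two P₁.2 (D.A_le P₁) (memP₁ hx) (hψ1 (hSN_le hx) hxM), rfl⟩
      · intro n hn hnM b hb'
        obtain ⟨m, hm, rfl⟩ := normlift n hn
        obtain ⟨a, ha, rfl⟩ := mem_map.1 hb'
        have h1 := D.ker_le_conjAut (MonoidHom.mem_ker.2 (hψ1 hm hnM))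
        have h2 := D.conjAut_apply ⟨m, hm⟩ ⟨⟨a, hAN ha⟩, ha⟩
        rw [MonoidHom.mem_ker.1 h1, MulAut.one_apply] at h2
        have h3 : a = m * a * m⁻¹ := congrArg Subtype.val h2
        rw [← map_mul, ← map_mul]
        exact congrArg π (eq_mul_inv_iff_mul_eq.1 h3).symm
    · left
      have hAMN : D.A ≤ MN := fun x hx => hAMb (mem_map.2 ⟨x, hx, rfl⟩)
      refine ⟨?_, ?_⟩
      · rintro - ⟨x, hx, rfl⟩
        obtain ⟨k, hk⟩ := P₁.2 ⟨_, memP₁ hx⟩
        exact D.contains_two hAMN ht (x := ⟨x, hSN_le hx⟩) (congrArg Subtype.val hk)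
      · intro B hBA hinv
        have hBeq : B = (A ⊓ B.comap π).map π := by
          refine le_antisymm (fun b hb => ?_) ?_
          · obtain ⟨a, ha, rfl⟩ := mem_map.1 (hBA hb)
            exact mem_map.2 ⟨a, ⟨ha, hb⟩, rfl⟩
          · rintro - ⟨a, ⟨-, ha⟩, rfl⟩; exact ha
        rcases D.irreducible hnc ht (B := (A ⊓ B.comap π).subgroupOf N) (fun x hx => hx.1) (by
          intro m hm x hx
          refine ⟨(ofN m.2 _).1 hx.1, ?_⟩
          show π ((m : G) * (x : G) * (m : G)⁻¹) ∈ B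
          rw [map_mul, map_mul, map_inv]
          refine hinv (π (m : G)) ?_ hm _ hx.2
          rw [mem_normalizer_iff]
          intro z
          constructor
          · rintro ⟨a, ha, rfl⟩
            exact ⟨_, (ofN m.2 a).1 ha, by rw [map_mul, map_mul, map_inv]⟩
          · rintro ⟨a, ha, hae⟩
            refine ⟨(m : G)⁻¹ * a * m, (ofN m.2 _).2 (by simpa [mul_assoc] using ha), ?_⟩
            rw [map_mul, map_mul, map_inv, hae]; group) with h | h
        · left
          rw [subgroupOf_eq_bot, disjoint_iff, inf_eq_left.2 (inf_le_left.trans hAN)] at h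
          rw [hBeq, h, Subgroup.map_bot]
        · right
          rw [hBeq]
          congr 1
          refine le_antisymm inf_le_left fun a ha => ?_
          have hmem : (⟨a, hAN ha⟩ : N) ∈ D.A := ha
          rw [← h] at hmem
          exact hmem
  have hA1 : A.map π ≠ ⊥ := by
    intro h
    obtain ⟨a, ha, hne⟩ := (A.bot_or_exists_ne_one).resolve_left (fun h0 => by
      rw [h0, card_bot] at hA16; exact absurd hA16 (by norm_num))
    exact hne (inj a (hASN ha) 1 (one_mem _) (by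
      rw [map_one]; exact mem_bot.1 (h ▸ mem_map_of_mem π ha)))
  have hnotle : ¬ SN.map π ≤ A.map π := by
    intro h
    have hle : SN ≤ A := by
      intro x hx
      obtain ⟨a, ha, hae⟩ := mem_map.1 (h (mem_map_of_mem π hx))
      exact inj a (hASN ha) x hx hae ▸ ha
    have := card_le_of_le hle
    omega
  let Sb : Sylow 2 (G ⧸ K) := S₁.mapSurjective hπs
  have hSb : (Sb : Subgroup (G ⧸ K)) = SN.map π := rfl
  have hn : (A.map π).Normal := by
    refine normal_of_stronglyClosed hGold (Cores.pPrimeCore_quotient_self 2) Sb (A.map π) ?_ hA1 ?_ ?_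
      (hSb ▸ hnotle) ?_ ?_ (hSb ▸ dich)
    · refine ⟨⟨fun x y => Subtype.ext ?_⟩⟩
      obtain ⟨a, ha, hae⟩ := mem_map.1 x.2
      obtain ⟨b, hb, hbe⟩ := mem_map.1 y.2
      show (x : G ⧸ K) * y = y * x
      rw [← hae, ← hbe, ← map_mul, ← map_mul]
      haveI := hAc
      exact congrArg π (congrArg Subtype.val (mul_comm' (⟨a, ha⟩ : A) ⟨b, hb⟩))
    · rw [hSb]
      rintro - ⟨x, hx, rfl⟩ h
      refine mem_map_of_mem π (hCA x hx fun a ha => inj _ (mul_mem hx (hASN ha)) _ (mul_mem (hASN ha) hx) ?_)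
      rw [map_mul, map_mul]; exact h _ (mem_map_of_mem π ha)
    · rw [hSb]
      refine ⟨map_mono hASN, ?_⟩
      rintro - ⟨a, ha, rfl⟩ n hn
      obtain ⟨g, rfl⟩ := hπs n
      rw [← map_inv, ← map_mul, ← map_mul] at hn ⊢
      have hp : IsPGroup 2 (zpowers (g * a * g⁻¹)) := by
        have h2 : orderOf (g * a * g⁻¹) ∣ 2 ^ 1 :=
          orderOf_dvd_of_pow_eq_one (by rw [pow_one, conj_pow, hAsq a ha]; group)
        obtain ⟨k, -, hk⟩ := (Nat.dvd_prime_pow Nat.prime_two).1 h2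
        exact IsPGroup.of_card (n := k) (p := 2) (by rw [Nat.card_zpowers, hk])
      obtain ⟨h, hh, hconj⟩ := conj_into hKodd (S₁.2) hp ((zpowers_le).2 (supmem hn))
      have hA' : h * (g * a * g⁻¹) * h⁻¹ ∈ A := by
        rw [show h * (g * a * g⁻¹) * h⁻¹ = (h * g) * a * (h * g)⁻¹ by group]
        refine hsc.2 a ha _ ?_
        rw [show (h * g) * a * (h * g)⁻¹ = h * (g * a * g⁻¹) * h⁻¹ by group]
        exact hconj _ (mem_zpowers _)
      obtain ⟨s, hs, hse⟩ := mem_map.1 (supmap hh)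
      refine mem_map.2 ⟨_, hAS₁ s⁻¹ (inv_mem hs) _ hA', ?_⟩
      simp only [map_mul, map_inv, hse]
      group
    · refine ⟨π (rep 0), π (rep 1), ?_, ?_, ?_⟩
      · refine orderOf_eq_prime (by rw [← map_pow, rsq 0, map_one]) fun h1 => ?_
        have h2 : orderOf (rep 0) ∣ Nat.card K := orderOf_dvd_natCard _ (kerπ.1 h1)
        rw [hrep2 0] at h2
        exact hKodd.not_two_dvd_nat h2
      · refine orderOf_eq_prime (by rw [← map_pow, rsq 1, map_one]) fun h1 => ?_
        have h2 : orderOf (rep 1) ∣ Nat.card K := orderOf_dvd_natCard _ (kerπ.1 h1)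
        rw [hrep2 1] at h2
        exact hKodd.not_two_dvd_nat h2
      · intro h
        obtain ⟨n, hn⟩ := isConj_iff.1 h
        obtain ⟨g, rfl⟩ := hπs n
        rw [← map_inv, ← map_mul, ← map_mul] at hn
        have hmem : g * rep 0 * g⁻¹ ∈ zpowers (rep 1) ⊔ K :=
          supmem (by rw [hn]; exact mem_map_of_mem π (mem_zpowers _))
        obtain ⟨k, hk, hconj⟩ := conj_into hKodd
          (IsPGroup.of_card (n := 1) (p := 2) (by rw [Nat.card_zpowers, hrep2 1, pow_one]))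
          (IsPGroup.of_card (n := 1) (p := 2) (by rw [Nat.card_zpowers, ord_conj, hrep2 0, pow_one]))
          ((zpowers_le).2 hmem)
        obtain ⟨j, hj⟩ := mem_zpowers_iff.1 (hconj _ (mem_zpowers _))
        have hord : orderOf (k * (g * rep 0 * g⁻¹) * k⁻¹) = 2 := by rw [ord_conj, ord_conj, hrep2 0]
        have he : k * (g * rep 0 * g⁻¹) * k⁻¹ = rep 1 := by
          rw [← hj] at hord ⊢
          rcases Int.even_or_odd j with ⟨i, hi⟩ | ⟨i, hi⟩
          · exfalso
            rw [hi, ← two_mul, zpow_mul, zpow_ofNat, rsq 1, one_zpow,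
              orderOf_one] at hord
            omega
          · rw [hi, zpow_add, zpow_one, zpow_mul, zpow_ofNat, rsq 1,
              one_zpow, one_mul]
        exact absurd (hclass 0 1 (isConj_iff.2 ⟨k * g, by rw [← he]; group⟩)) (by decide)
    · intro B hB hinv
      rcases dich ⊤ inferInstance le_top with ⟨-, h⟩ | ⟨h, -⟩
      · exact h B hB fun n hn _ => hinv n hn
      · rw [inf_top_eq] at h
        exact absurd h hnotle
  have hfin := hn.comap π
  rwa [comap_map_eq, hπ, QuotientGroup.ker_mk'] at hfin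

end Cfsg.Agent.AltEightClosed
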